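import Groth.Agent.DivSeqLib.HGm
import Groth.Agent.CovDevLib.Base
import Mathlib.AlgebraicGeometry.Morphisms.ClosedImmersion

/-!
# Units lift locally along a closed immersion
-/

set_option autoImplicit false
set_option linter.unusedSectionVars false
set_option linter.style.haveILetI false
set_option backward.isDefEq.respectTransparency false
set_option backward.isDefEq.respectTransparency.types false
set_option synthInstance.maxHeartbeats 400000
set_option maxHeartbeats 1000000

universe u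

open CategoryTheory CategoryTheory.Limits CategoryTheory.Abelian AlgebraicGeometry Opposite
open Groth.Agent.EtShLib DescSecLib MuConstLib

noncomputable section

namespace EtHensGmLib

variable {Z Y : Scheme.{u}} (z : Z ⟶ Y) [IsClosedImmersion z]

/-- The étale object of an open immersion into `U`. -/
abbrev subEt (U : Y.Etale) {T : Scheme.{u}} (j : T ⟶ U.left) [IsOpenImmersion j] : Y.Etale :=
  haveI : AlgebraicGeometry.Etale U.hom := U.prop
  Scheme.Etale.mk (j ≫ U.hom)

/-- Its map to `U`. -/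
abbrev subHom (U : Y.Etale) {T : Scheme.{u}} (j : T ⟶ U.left) [IsOpenImmersion j] : subEt U j ⟶ U :=
  MorphismProperty.Over.homMk j rfl

/-- The projection of the base change. -/
abbrev pp (U : Y.Etale) {T : Scheme.{u}} (j : T ⟶ U.left) [IsOpenImmersion j] :
    ((EtCoh.bc z).obj (subEt U j)).left ⟶ T :=
  pullback.fst (subEt U j).hom z

instance isClosedImmersion_pp (U : Y.Etale) {T : Scheme.{u}} (j : T ⟶ U.left) [IsOpenImmersion j] :
    IsClosedImmersion (pp z U j) :=
  inferInstanceAs (IsClosedImmersion (pullback.fst (subEt U j).hom z))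

theorem pp_fst (U : Y.Etale) {T : Scheme.{u}} (j : T ⟶ U.left) [IsOpenImmersion j] :
    ((EtCoh.bc z).map (subHom U j)).left ≫ pullback.fst U.hom z = pp z U j ≫ j :=
  DescSecLib.bc_map_fst z (subHom U j)

theorem exists_local_lift (U : Y.Etale) (t : ToType (((EtCoh.push z).obj (EtCoh.Gm Z)).obj.obj (op U)))
    (x : ↥U.left) :
    ∃ (T : Scheme.{u}) (j : T ⟶ U.left) (_ : IsOpenImmersion j), x ∈ Set.range j ∧
      ∃ g : Γ(T, ⊤), IsUnit g ∧ (pp z U j).appTop g =
        ((EtCoh.bc z).map (subHom U j)).left.appTop (gmVal Z (W := (EtCoh.bc z).obj U) t) := by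
  let p : ((EtCoh.bc z).obj U).left ⟶ U.left := pullback.fst U.hom z
  haveI : IsClosedImmersion p := inferInstanceAs (IsClosedImmersion (pullback.fst U.hom z))
  by_cases hx : x ∈ Set.range p
  · obtain ⟨W, hW, hxW, -⟩ := exists_isAffineOpen_mem_and_subset (x := x) (U := (⊤ : U.left.Opens)) trivial
    haveI : IsAffine W.toScheme := hW
    obtain ⟨g, hg⟩ := (IsClosedImmersion.isAffine_surjective_of_isAffine (pp z U W.ι)).2
      (((EtCoh.bc z).map (subHom U W.ι)).left.appTop (gmVal Z (W := (EtCoh.bc z).obj U) t))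
    obtain ⟨q, hq⟩ := hx
    have hxW' : (⟨x, hxW⟩ : W.toScheme) ∈ W.toScheme.basicOpen g := by
      obtain ⟨r', h1, -⟩ := AlgebraicGeometry.Scheme.exists_preimage_of_isPullback
          (EtCoh.isPullback_bc_map z (subHom U W.ι)) q ⟨x, hxW⟩ hq
      have h2 : pp z U W.ι r' = ⟨x, hxW⟩ := by
        apply W.ι.isOpenEmbedding.injective
        refine ((Scheme.Hom.comp_apply (pp z U W.ι) W.ι r').symm.trans ?_).trans hq
        rw [← pp_fst, Scheme.Hom.comp_apply]
        exact congrArg p h1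
      have h3 : r' ∈ pp z U W.ι ⁻¹ᵁ W.toScheme.basicOpen g := by
        have hu : IsUnit (gmVal Z (W := (EtCoh.bc z).obj U) t) := Units.isUnit _
        rw [Scheme.preimage_basicOpen_top, hg,
          Scheme.basicOpen_of_isUnit _ (hu.map ((EtCoh.bc z).map (subHom U W.ι)).left.appTop.hom)]
        trivial
      exact h2 ▸ h3
    let V := W.toScheme.basicOpen g
    refine ⟨V.toScheme, V.ι ≫ W.ι, inferInstance, ⟨⟨⟨x, hxW⟩, hxW'⟩, rfl⟩, V.ι.appTop g, ?_, ?_⟩
    · refine RingedSpace.isUnit_of_isUnit_germ V.toScheme.toRingedSpace ⊤ _ fun y hy => ?_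
      refine (Scheme.mem_basicOpen' (X := V.toScheme) (V.ι.appTop g) ⟨y, hy⟩).1 ?_
      rw [← Scheme.preimage_basicOpen_top]
      exact y.2
    · let k : subEt U (V.ι ≫ W.ι) ⟶ subEt U W.ι :=
        MorphismProperty.Over.homMk V.ι (Category.assoc _ _ _).symm
      have e : k ≫ subHom U W.ι = subHom U (V.ι ≫ W.ι) := MorphismProperty.Over.Hom.ext rfl
      have h1 : ((EtCoh.bc z).map k).left ≫ pp z U W.ι = pp z U (V.ι ≫ W.ι) ≫ V.ι := DescSecLib.bc_map_fst z k
      rw [← e, Functor.map_comp]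
      show (pp z U (V.ι ≫ W.ι)).appTop (V.ι.appTop g) =
        ((EtCoh.bc z).map k).left.appTop (((EtCoh.bc z).map (subHom U W.ι)).left.appTop _)
      refine Eq.trans ?_ (congrArg ((EtCoh.bc z).map k).left.appTop hg)
      exact (congrArg (fun f : ((EtCoh.bc z).obj (subEt U (V.ι ≫ W.ι))).left ⟶ W.toScheme => f.appTop g) h1).symm
  · obtain ⟨W, hW, hxW, hWsub⟩ := exists_isAffineOpen_mem_and_subset (x := x)
      (U := (⟨(Set.range p)ᶜ, p.isClosedEmbedding.isClosed_range.isOpen_compl⟩ : U.left.Opens)) hx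
    haveI : IsEmpty ↥((EtCoh.bc z).obj (subEt U W.ι)).left := ⟨fun r => hWsub (pp z U W.ι r).2
      ⟨((EtCoh.bc z).map (subHom U W.ι)).left r,
        ((Scheme.Hom.comp_apply _ p r).symm.trans (congrArg (fun f : ((EtCoh.bc z).obj (subEt U W.ι)).left ⟶ U.left =>
          f r) (pp_fst z U W.ι))).trans (Scheme.Hom.comp_apply _ _ r)⟩⟩
    haveI : Subsingleton Γ(((EtCoh.bc z).obj (subEt U W.ι)).left, ⊤) := inferInstance
    exact ⟨W.toScheme, W.ι, inferInstance, ⟨⟨x, hxW⟩, rfl⟩, 1, isUnit_one,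
      Subsingleton.elim (α := Γ(((EtCoh.bc z).obj (subEt U W.ι)).left, ⊤)) _ _⟩

theorem epi_GmPush : Epi (EtLim.GmPush z) := by
  haveI : Sheaf.IsLocallySurjective (EtLim.GmPush z) := by
    refine ⟨fun {U} t => ?_⟩
    choose T j hj hx g hg hgt using exists_local_lift z U t
    haveI := hj
    refine Y.smallEtaleTopology.superset_covering ?_
      ((Scheme.ofArrows_mem_smallEtaleTopology_iff (fun x => subHom U (j x))).2
        (Set.eq_univ_of_forall fun x => Set.mem_iUnion.2 ⟨x, hx x⟩))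
    refine Sieve.generate_le_iff _ _ |>.2 ?_
    rintro _ _ ⟨x⟩
    refine ⟨ULift.up (Additive.ofMul (hg x).unit), ?_⟩
    exact gmVal_injective Z (W := (EtCoh.bc z).obj (subEt U (j x))) (hgt x)
  infer_instance

/-- The reduction to the kernel. -/
theorem bijective_HGmPull [PreservesFiniteLimits (EtCoh.pull z)]
    (hK : ∀ i : ℕ, 1 ≤ i → Subsingleton (EtCoh.H Y (kernel (EtLim.GmPush z)) i)) (i : ℕ) (hi : 1 ≤ i) :
    Function.Bijective (EtLim.HGmPull z i) := by
  haveI := epi_GmPush z
  let S := ShortComplex.mk (kernel.ι (EtLim.GmPush z)) (EtLim.GmPush z) (kernel.condition _)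
  have hS : S.ShortExact :=
    { exact := ShortComplex.exact_of_f_is_kernel _ (kernelIsKernel (EtLim.GmPush z)) }
  refine (CovDevLib.bijective_mu (p := z) (A := EtCoh.Gm Z) i).comp (show Function.Bijective
    (fun x : EtCoh.H Y (EtCoh.Gm Y) i => x.comp (Ext.mk₀ S.g) (add_zero i)) from ⟨fun x x' h => ?_, fun w => ?_⟩)
  · obtain ⟨a, ha⟩ := Ext.covariant_sequence_exact₂ (EtCoh.const Y ℤ) hS (x - x') (by
      rw [sub_eq_add_neg, Ext.add_comp, Ext.neg_comp, ← sub_eq_add_neg, sub_eq_zero]; exact h)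
    rw [show a = 0 from (hK i hi).elim _ _, Ext.zero_comp] at ha
    exact sub_eq_zero.1 ha.symm
  · obtain ⟨x, hx⟩ := Ext.covariant_sequence_exact₃ (EtCoh.const Y ℤ) hS w rfl
      ((hK (i + 1) (by omega)).elim _ _)
    exact ⟨x, hx⟩

end EtHensGmLib

end
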