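import Groth.Agent.EtBrLib.Gm
import Groth.Agent.EtContLib.PullSys

/-!
# Vanishing over fields for a sheaf with surjective norms
-/

set_option autoImplicit false
set_option linter.unusedSectionVars false
set_option linter.style.haveILetI false
set_option backward.isDefEq.respectTransparency false
set_option backward.isDefEq.respectTransparency.types false
set_option synthInstance.maxHeartbeats 400000
set_option maxHeartbeats 1000000

universe u

open CategoryTheory CategoryTheory.Limits CategoryTheory.Abelian AlgebraicGeometry Opposite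
open Groth.Agent.EtShLib EtSliceLib EtTransferLib EtKummerLib EtBrLib

noncomputable section

namespace EtHensGmLib

/-- The point of a field extension. -/
abbrev cL (k L : Type u) [Field k] [Field L] [Algebra k L] :
    Spec (CommRingCat.of L) ⟶ Spec (CommRingCat.of k) :=
  Spec.map (CommRingCat.ofHom (algebraMap k L))

instance etale_cL (k L : Type u) [Field k] [Field L] [Algebra k L] [FiniteDimensional k L]
    [Algebra.IsSeparable k L] : AlgebraicGeometry.Etale (cL k L) :=
  EtTransferLib.etale_specMap k L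

/-- `H^1` vanishes and norms from cyclic extensions are surjective. -/
structure Base (k : Type u) [Field k] (G : EtCoh.Ab (Spec (CommRingCat.of k))) : Prop where
  h1 : Subsingleton (EtCoh.H (Spec (CommRingCat.of k)) G 1)
  norm : ∀ (M : Type u) [Field M] [Algebra k M] [FiniteDimensional k M] [IsGalois k M] (σ : M ≃ₐ[k] M),
    (∀ g : M ≃ₐ[k] M, g ∈ Subgroup.zpowers σ) → ∀ b : free (EtCoh.top (Spec (CommRingCat.of k))) ⟶ G,
      ∃ b' : free (fieldEt k M) ⟶ G, nrm k M ≫ b' = b

theorem Base.of_iso {k : Type u} [Field k] {G G' : EtCoh.Ab (Spec (CommRingCat.of k))} (e : G ≅ G') (h : Base k G) :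
    Base k G' where
  h1 := by
    haveI := h.h1
    refine subsingleton_of_forall_eq 0 fun x => EtContLib.ext_eq_zero_of_comp x e.inv inferInstance ?_
    exact Subsingleton.elim (α := EtCoh.H (Spec (CommRingCat.of k)) G 1) _ _
  norm M _ _ _ _ σ hσ b := by
    obtain ⟨b', hb'⟩ := h.norm M σ hσ (b ≫ e.inv)
    exact ⟨b' ≫ e.hom, by rw [← Category.assoc, hb', Category.assoc, e.inv_hom_id, Category.comp_id]⟩

/-- The same after every finite separable extension. -/
def Good (k : Type u) [Field k] (G : EtCoh.Ab (Spec (CommRingCat.of k))) : Prop :=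
  Base k G ∧ ∀ (L : Type u) [Field L] [Algebra k L] [FiniteDimensional k L] [Algebra.IsSeparable k L],
    Base L ((EtCoh.pull (cL k L)).obj G)

theorem isIso_c {A B C : Scheme.{u}} (a : A ⟶ B) (b : B ⟶ C) (c : A ⟶ C) (w : a ≫ b = c) (G : EtCoh.Ab C) :
    IsIso ((DescSecLib.etSys.c a b c w).app G) := by
  rw [← EtSliceLib.pullComp_inv_eq]
  infer_instance

theorem cL_w (k K' N : Type u) [Field k] [Field K'] [Field N] [Algebra k K'] [Algebra K' N] [Algebra k N]
    [IsScalarTower k K' N] : cL K' N ≫ cL k K' = cL k N := by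
  rw [cL, cL, cL, ← Spec.map_comp, ← CommRingCat.ofHom_comp, ← IsScalarTower.algebraMap_eq]

theorem Good.ext {k : Type u} [Field k] {G : EtCoh.Ab (Spec (CommRingCat.of k))} (h : Good k G)
    (K' : Type u) [Field K'] [Algebra k K'] [FiniteDimensional k K'] [Algebra.IsSeparable k K'] :
    Good K' ((EtCoh.pull (cL k K')).obj G) := by
  refine ⟨h.2 K', fun L _ _ _ _ => ?_⟩
  letI : Algebra k L := ((algebraMap K' L).comp (algebraMap k K')).toAlgebra
  haveI : IsScalarTower k K' L := IsScalarTower.of_algebraMap_eq fun _ => rfl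
  haveI : FiniteDimensional k L := FiniteDimensional.trans k K' L
  haveI : Algebra.IsSeparable k L := Algebra.IsSeparable.trans k K' L
  haveI := isIso_c (cL K' L) (cL k K') (cL k L) (cL_w k K' L) G
  exact (h.2 L).of_iso (asIso ((DescSecLib.etSys.c (cL K' L) (cL k K') (cL k L)
    (cL_w k K' L)).app G)).symm

theorem hpull_hpull_eq_zero {A A' B C : Scheme.{u}} (a : A ⟶ B) (b : B ⟶ C) (e : A ⟶ A') (c : A' ⟶ C)
    (w : e ≫ c = a ≫ b) [PreservesFiniteLimits (EtCoh.pull a)] [PreservesFiniteLimits (EtCoh.pull b)]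
    [PreservesFiniteLimits (EtCoh.pull e)] [PreservesFiniteLimits (EtCoh.pull c)]
    [PreservesFiniteLimits (EtCoh.pull (a ≫ b))] (G : EtCoh.Ab C) (n : ℕ) (x : EtCoh.H C G n)
    (hx : EtCore.Hpull c G n x = 0) : EtCore.Hpull a ((EtCoh.pull b).obj G) n (EtCore.Hpull b G n x) = 0 := by
  have h1 := EtContLib.hpull_comp e c (a ≫ b) w G n x
  rw [hx, map_zero, Ext.zero_comp] at h1
  refine EtContLib.ext_eq_zero_of_comp _ _ (isIso_c a b (a ≫ b) rfl G) ?_
  exact (EtContLib.hpull_comp a b (a ≫ b) rfl G n x).trans h1.symm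

theorem kills_iff_cL (k L : Type u) [Field k] [Field L] [Algebra k L] [FiniteDimensional k L]
    [Algebra.IsSeparable k L] {G : EtCoh.Ab (Spec (CommRingCat.of k))} (n : ℕ)
    (α : EtCoh.H (Spec (CommRingCat.of k)) G n) :
    EtCore.Hpull (cL k L) G n α = 0 ↔ (Ext.mk₀ (toConst (fieldEt k L))).comp α (zero_add n) = 0 :=
  EtTransferLib.kills_iff (W := fieldEt k L) G n α

theorem kills_trans (k K' N : Type u) [Field k] [Field K'] [Field N] [Algebra k K'] [Algebra K' N] [Algebra k N]
    [IsScalarTower k K' N] [FiniteDimensional k K'] [FiniteDimensional K' N] [FiniteDimensional k N]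
    [Algebra.IsSeparable k K'] [Algebra.IsSeparable K' N] [Algebra.IsSeparable k N]
    {G : EtCoh.Ab (Spec (CommRingCat.of k))} (n : ℕ) (α : EtCoh.H (Spec (CommRingCat.of k)) G n)
    (hα : EtCore.Hpull (cL k N) G n α = 0) :
    EtCore.Hpull (cL K' N) ((EtCoh.pull (cL k K')).obj G) n (EtCore.Hpull (cL k K') G n α) = 0 :=
  hpull_hpull_eq_zero (cL K' N) (cL k K') (𝟙 _) (cL k N) ((Category.id_comp _).trans (cL_w k K' N).symm) G n α hα

theorem subsingleton_H : ∀ (q : ℕ) (k : Type u) [Field k] (G : EtCoh.Ab (Spec (CommRingCat.of k))), Good k G →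
    1 ≤ q → Subsingleton (EtCoh.H (Spec (CommRingCat.of k)) G q) := by
  intro q
  induction q using Nat.strong_induction_on with
  | _ q IH =>
  intro k _ G hk hq
  rcases Nat.eq_or_lt_of_le hq with rfl | hq2
  · exact hk.1.h1
  obtain ⟨n, rfl⟩ : ∃ n, q = n + 2 := ⟨q - 2, by omega⟩
  suffices main : ∀ (d : ℕ) (k : Type u) [Field k] (G : EtCoh.Ab (Spec (CommRingCat.of k))), Good k G →
      ∀ (N : Type u) [Field N] [Algebra k N] [FiniteDimensional k N] [IsGalois k N], Module.finrank k N = d →
      ∀ α : EtCoh.H (Spec (CommRingCat.of k)) G (n + 2),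
        EtCore.Hpull (cL k N) G (n + 2) α = 0 → α = 0 by
    refine subsingleton_of_forall_eq 0 fun α => ?_
    obtain ⟨L, _, _, _, _, h⟩ := exists_field_kill k (n := n + 1) α
    let N := IntermediateField.normalClosure k L (SeparableClosure k)
    haveI : Algebra.IsSeparable k N := Algebra.isSeparable_tower_bot_of_isSeparable k N (SeparableClosure k)
    haveI : IsGalois k N := ⟨⟩
    let f : L →ₐ[k] SeparableClosure k := IsSepClosed.lift
    let τ : L →ₐ[k] N := f.codRestrict N.toSubalgebra fun y => AlgHom.fieldRange_le_normalClosure f ⟨y, rfl⟩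
    let φ : fieldEt k N ⟶ fieldEt k L :=
      MorphismProperty.Over.homMk (Spec.map (CommRingCat.ofHom τ.toRingHom)) (by
        show Spec.map _ ≫ Spec.map (CommRingCat.ofHom (algebraMap k L)) = Spec.map (CommRingCat.ofHom (algebraMap k N))
        rw [← Spec.map_comp, ← CommRingCat.ofHom_comp]
        exact congrArg (fun c => Spec.map (CommRingCat.ofHom c)) τ.comp_algebraMap)
    refine main _ k G hk N rfl α ((kills_iff_cL k N _ α).2 ?_)
    rw [← freeMap_toConst φ, ← Ext.mk₀_comp_mk₀, Ext.comp_assoc_of_second_deg_zero, h, Ext.comp_zero]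
  intro d
  induction d using Nat.strong_induction_on with
  | _ d IHd =>
  intro k _ G hk N _ _ _ _ hd α hα
  have step : ∀ K' : IntermediateField k N, Module.finrank K' N < d →
      (Ext.mk₀ (toConst (fieldEt k K'))).comp α (zero_add (n + 2)) = 0 := fun K' hK' =>
    (kills_iff_cL k K' _ α).1 (IHd _ hK' K' _ (hk.ext K') N rfl _ (kills_trans k K' N _ α hα))
  have hdα : d • α = 0 := hd ▸ finrank_nsmul k N α ((kills_iff_cL k N _ α).1 hα)
  have hcard : Nat.card (N ≃ₐ[k] N) = d := by rw [IsGalois.card_aut_eq_finrank, hd]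
  by_contra hne
  have hord : addOrderOf α ≠ 1 := fun h => hne (AddMonoid.addOrderOf_eq_one_iff.1 h)
  obtain ⟨p, hp, hpd⟩ := Nat.exists_prime_and_dvd hord
  haveI : Fact p.Prime := ⟨hp⟩
  obtain ⟨P⟩ : Nonempty (Sylow p (N ≃ₐ[k] N)) := inferInstance
  by_cases hP : (P : Subgroup (N ≃ₐ[k] N)) = ⊤
  · have hG : IsPGroup p (N ≃ₐ[k] N) := fun g => by
      obtain ⟨m, hm⟩ := P.2 ⟨g, hP ▸ Subgroup.mem_top g⟩
      exact ⟨m, congrArg Subtype.val hm⟩
    obtain ⟨m, hm⟩ := IsPGroup.iff_card.1 hG
    rw [hcard] at hm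
    rcases m with _ | m
    · rw [hm, pow_zero, one_smul] at hdα
      exact hne hdα
    obtain ⟨H, hH⟩ := Sylow.exists_subgroup_card_pow_prime p (n := m) (G := N ≃ₐ[k] N)
      (by rw [hcard, hm]; exact pow_dvd_pow p m.le_succ)
    have hidx : H.index = p := by
      have := H.card_mul_index
      rw [hH, hcard, hm, pow_succ] at this
      exact mul_left_cancel₀ (pow_ne_zero _ hp.ne_zero) this
    haveI : H.Normal := Subgroup.normal_of_index_eq_minFac_card (by
      rw [hidx, hcard, hm, Nat.pow_minFac (Nat.succ_ne_zero m), hp.minFac_eq])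
    let M := IntermediateField.fixedField H
    haveI : IsGalois k M := IsGalois.of_fixedField_normal_subgroup H
    have hMN : Module.finrank M N = p ^ m := by
      rw [IntermediateField.finrank_fixedField_eq_card, hH]
    have hkM : Module.finrank k M = p := by
      have := Module.finrank_mul_finrank k M N
      rw [hMN, hd, hm, pow_succ, mul_comm] at this
      exact mul_left_cancel₀ (pow_ne_zero m hp.ne_zero) this
    have hM0 := step M (by rw [hMN, hm]; exact Nat.pow_lt_pow_right hp.one_lt m.lt_succ_self)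
    haveI : IsCyclic (M ≃ₐ[k] M) := isCyclic_of_prime_card (p := p) (by rw [IsGalois.card_aut_eq_finrank, hkM])
    obtain ⟨σ, hσ⟩ := IsCyclic.exists_generator (α := M ≃ₐ[k] M)
    refine hne (eq_zero_of_top α ?_)
    refine eq_zero_of_cyclic_kill k M σ hσ (n := n) ?_ ?_ _ ?_
    · intro a
      haveI := IH (n + 1) (by omega) M _ (hk.ext M) (by omega)
      exact (psi_bijective (fieldEt k M) (n + 1) G).1 (Subsingleton.elim
        (α := EtCoh.H (Spec (CommRingCat.of M)) ((EtCoh.pull (cL k M)).obj G) (n + 1)) _ _)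
    · intro b
      rcases Nat.eq_zero_or_pos n with rfl | hn
      · obtain ⟨f, rfl⟩ := (Ext.mk₀_bijective _ _).2 b
        obtain ⟨f', hf'⟩ := hk.1.norm M σ hσ f
        exact ⟨Ext.mk₀ f', by rw [Ext.mk₀_comp_mk₀, hf']⟩
      · haveI := IH n (by omega) k G hk hn
        exact ⟨0, by rw [Ext.comp_zero, subsingleton_ext_top k n b]⟩
    · rw [← Ext.comp_assoc_of_second_deg_zero, Ext.mk₀_comp_mk₀, freeMap_toConst]
      exact hM0
  · let K' := IntermediateField.fixedField (P : Subgroup (N ≃ₐ[k] N))
    have hlt : Module.finrank K' N < d := by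
      rw [IntermediateField.finrank_fixedField_eq_card, ← hcard]
      refine lt_of_le_of_ne (Subgroup.card_le_card_group _) fun h => hP (Subgroup.eq_top_of_card_eq _ h)
    have h0 : Module.finrank k K' • α = 0 := finrank_nsmul k K' α (step K' hlt)
    have hidx : Module.finrank k K' = (P : Subgroup (N ≃ₐ[k] N)).index := by
      have := Module.finrank_mul_finrank k K' N
      rw [IntermediateField.finrank_fixedField_eq_card, hd, ← hcard,
        ← (P : Subgroup (N ≃ₐ[k] N)).card_mul_index, mul_comm] at this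
      exact mul_left_cancel₀ Nat.card_pos.ne' this
    exact P.not_dvd_index (hidx ▸ hpd.trans (addOrderOf_dvd_iff_nsmul_eq_zero.2 h0))

end EtHensGmLib

end
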