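import Groth.Agent.S0518
import Groth.Agent.S0519
import Groth.Agent.QfHensFiniteLib.Basic
import Mathlib.RingTheory.Etale.Field
import Mathlib.RingTheory.Trace.Basic

/-!
# Lifting finite separable extensions and norms over henselian local rings
-/

set_option autoImplicit false
set_option linter.unusedSectionVars false
set_option synthInstance.maxHeartbeats 400000
set_option maxHeartbeats 1000000

universe u

open IsLocalRing TensorProduct

noncomputable section

namespace EtHensGmLib

variable {B : Type u} [CommRing B] [HenselianLocalRing B] {k : Type u} [Field k] (π : B →+* k)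

theorem ker_eq_maximalIdeal (hπ : Function.Surjective π) : RingHom.ker π = maximalIdeal B :=
  eq_maximalIdeal (RingHom.ker_isMaximal_of_surjective π hπ)

theorem isLocalHom_of_surj (hπ : Function.Surjective π) : IsLocalHom π :=
  ⟨fun a ha => by_contra fun h => by
    have h' : a ∈ RingHom.ker π := by rw [ker_eq_maximalIdeal π hπ]; exact h
    exact ha.ne_zero h'⟩

/-- A finite étale local algebra lifting a finite separable extension, with its endomorphisms. -/
theorem exists_lift (hπ : Function.Surjective π) (L : Type u) [Field L] [Algebra k L] [FiniteDimensional k L]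
    [Algebra.IsSeparable k L] :
    ∃ (C : Type u) (_ : CommRing C) (_ : Algebra B C), HenselianLocalRing C ∧ Module.Finite B C ∧
      Algebra.Etale B C ∧ ∃ ρ : C →+* L, Function.Surjective ρ ∧
        ρ.comp (algebraMap B C) = (algebraMap k L).comp π ∧
        (∀ g : L →ₐ[k] L, ∃ φ : C →ₐ[B] C, ∀ x, ρ (φ x) = g (ρ x)) ∧
        (∀ φ ψ : C →ₐ[B] C, (∀ x, ρ (φ x) = ρ (ψ x)) → φ = ψ) := by
  haveI := isLocalHom_of_surj π hπ
  let K := ResidueField B
  letI algK : Algebra K k := (ResidueField.lift π).toAlgebra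
  have hsurj : Function.Surjective (algebraMap K k) := fun y => by
    obtain ⟨x, rfl⟩ := hπ y
    exact ⟨residue B x, ResidueField.lift_residue_apply π x⟩
  haveI : Module.Finite K k := Module.Finite.of_surjective (Algebra.linearMap K k) hsurj
  haveI : Algebra.IsSeparable K k := ⟨fun y => by
    obtain ⟨x, rfl⟩ := hsurj y
    exact isSeparable_algebraMap x⟩
  letI : Algebra K L := ((algebraMap k L).comp (algebraMap K k)).toAlgebra
  haveI : IsScalarTower K k L := IsScalarTower.of_algebraMap_eq fun _ => rfl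
  haveI : FiniteDimensional K L := Module.Finite.trans k L
  haveI : Algebra.IsSeparable K L := Algebra.IsSeparable.trans K k L
  haveI : Algebra.FormallyEtale K L := Algebra.FormallyEtale.of_isSeparable K L
  haveI : Algebra.Etale K L :=
    ⟨inferInstance, Algebra.FinitePresentation.of_finiteType.1 inferInstance⟩
  obtain ⟨C, iC, iA, hfin, het, ⟨e⟩⟩ := Groth.Agent.S0518.result B L
  haveI := hfin
  haveI := het
  let ρ : C →+* L := (e.toRingEquiv.toRingHom).comp
    (Algebra.TensorProduct.includeRight : C →ₐ[B] K ⊗[B] C).toRingHom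
  have h1 : ∀ z : K ⊗[B] C, ∃ c : C, (1 : K) ⊗ₜ[B] c = z := fun z => by
    induction z with
    | zero => exact ⟨0, tmul_zero _ _⟩
    | tmul a c =>
      obtain ⟨r, rfl⟩ := residue_surjective a
      refine ⟨r • c, ?_⟩
      rw [← smul_tmul, Algebra.smul_def, mul_one]
      rfl
    | add x y hx hy =>
      obtain ⟨c, rfl⟩ := hx
      obtain ⟨d, rfl⟩ := hy
      exact ⟨c + d, tmul_add _ _ _⟩
  have hρs : Function.Surjective ρ := fun y => by
    obtain ⟨c, hc⟩ := h1 (e.symm y)
    exact ⟨c, (congrArg e hc).trans (e.apply_symm_apply y)⟩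
  have hρc : ρ.comp (algebraMap B C) = (algebraMap k L).comp π := RingHom.ext fun b => by
    show e ((1 : K) ⊗ₜ[B] algebraMap B C b) = algebraMap k L (π b)
    rw [Algebra.algebraMap_eq_smul_one, ← smul_tmul, Algebra.smul_def, mul_one]
    refine (e.commutes (residue B b)).trans ?_
    exact congrArg (algebraMap k L) (ResidueField.lift_residue_apply π b)
  have huniq : ∀ q : Ideal C, q.IsMaximal → q = RingHom.ker ρ := fun q hq => by
    haveI := hq
    letI : Field (C ⧸ q) := Ideal.Quotient.field q
    have hq0 : ∀ b ∈ maximalIdeal B, algebraMap B (C ⧸ q) b = 0 := fun b hb => by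
      rw [IsScalarTower.algebraMap_apply B C (C ⧸ q), Ideal.Quotient.algebraMap_eq, Ideal.Quotient.eq_zero_iff_mem]
      haveI : (q.comap (algebraMap B C)).IsMaximal := Ideal.isMaximal_comap_of_isIntegral_of_isMaximal q
      have : q.comap (algebraMap B C) = maximalIdeal B := eq_maximalIdeal ‹_›
      exact (this.symm ▸ hb : b ∈ q.comap (algebraMap B C))
    let θ : K →ₐ[B] C ⧸ q := Ideal.Quotient.liftₐ (maximalIdeal B) (Algebra.ofId B (C ⧸ q)) hq0
    let h : K ⊗[B] C →ₐ[B] C ⧸ q :=
      Algebra.TensorProduct.lift θ (Ideal.Quotient.mkₐ B q) fun _ _ => Commute.all _ _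
    have hinj : Function.Injective ((h : K ⊗[B] C →+* C ⧸ q).comp e.symm.toRingEquiv.toRingHom) :=
      RingHom.injective _
    refine ((RingHom.ker_isMaximal_of_surjective ρ hρs).eq_of_le hq.ne_top fun x hx => ?_).symm
    have hx' : (1 : K) ⊗ₜ[B] x = 0 := e.injective ((RingHom.mem_ker.1 hx).trans (map_zero e).symm)
    have h2 : h ((1 : K) ⊗ₜ[B] x) = 0 := by rw [hx', map_zero]
    rw [Algebra.TensorProduct.lift_tmul, map_one, one_mul] at h2
    exact Ideal.Quotient.eq_zero_iff_mem.1 h2
  haveI : IsLocalRing C := IsLocalRing.of_unique_max_ideal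
    ⟨RingHom.ker ρ, RingHom.ker_isMaximal_of_surjective ρ hρs, huniq⟩
  refine ⟨C, iC, iA, (QfHensFiniteLib.henselianLocalRing_of_finite (A := B) C).1, hfin, het, ρ, hρs, hρc, ?_, ?_⟩
  · intro g
    obtain ⟨φ, hφ⟩ := (Groth.Agent.S0519.result B C C).2
      ((e.symm.toAlgHom.comp (g.restrictScalars K)).comp e.toAlgHom)
    refine ⟨φ, fun x => ?_⟩
    have h2 := congrArg (fun t : K ⊗[B] C →ₐ[K] K ⊗[B] C => e (t ((1 : K) ⊗ₜ[B] x))) hφ
    refine Eq.trans ?_ (h2.trans (e.apply_symm_apply _))
    rfl
  · intro φ ψ hφ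
    refine (Groth.Agent.S0519.result B C C).1 (Algebra.TensorProduct.ext' fun a x => ?_)
    show a ⊗ₜ[B] φ x = a ⊗ₜ[B] ψ x
    have h2 : (1 : K) ⊗ₜ[B] φ x = (1 : K) ⊗ₜ[B] ψ x := e.injective (hφ x)
    have h3 := congrArg (fun z : K ⊗[B] C => a • z) h2
    simpa [smul_tmul', smul_eq_mul] using h3

end EtHensGmLib

end
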