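import Groth.Agent.EtHensGmLib.Lift
import Groth.Agent.HenselLib.Criteria

/-!
# Norms of units congruent to one over a henselian local ring
-/

set_option autoImplicit false
set_option linter.unusedSectionVars false
set_option linter.style.haveILetI false
set_option synthInstance.maxHeartbeats 400000
set_option maxHeartbeats 1000000

universe u

open IsLocalRing Polynomial

noncomputable section

namespace EtHensGmLib

variable {C : Type u} [CommRing C] {ι : Type*} [Fintype ι] [DecidableEq ι]

/-- The polynomial with `e f = (1 + e) X ^ d - ∏ (X + e sᵢ)` when `∑ sᵢ = 1`. -/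
def normPoly (e : C) (s : ι → C) : C[X] :=
  X ^ Fintype.card ι - X ^ (Fintype.card ι - 1) -
    ∑ A ∈ (Finset.univ : Finset (Finset ι)).filter (fun A => 2 ≤ A.card),
      Polynomial.C (e ^ (A.card - 1) * ∏ i ∈ A, s i) * X ^ (Fintype.card ι - A.card)

theorem prod_add_eq (e : C) (s : ι → C) (hs : ∑ i, s i = 1) (U : C) :
    ∏ i, (U + e * s i) = U ^ Fintype.card ι + e * (U ^ Fintype.card ι - (normPoly e s).eval U) := by
  have h1 : ∏ i, (U + e * s i) =
      ∑ A : Finset ι, e ^ A.card * (∏ i ∈ A, s i) * U ^ (Fintype.card ι - A.card) := by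
    rw [Finset.prod_congr rfl fun i _ => add_comm U (e * s i), Finset.prod_add, Finset.powerset_univ]
    refine Finset.sum_congr rfl fun A _ => ?_
    rw [Finset.prod_mul_distrib, Finset.prod_const, Finset.prod_const, Finset.card_sdiff,
      Finset.inter_univ, Finset.card_univ]
  rw [h1, normPoly, eval_sub, eval_sub, eval_pow, eval_X, eval_pow, eval_X, eval_finsetSum]
  simp only [eval_mul, eval_C, eval_pow, eval_X]
  rw [← Finset.sum_filter_add_sum_filter_not (Finset.univ : Finset (Finset ι)) (fun A => 2 ≤ A.card)]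
  have h2 : ∑ A ∈ (Finset.univ : Finset (Finset ι)).filter (fun A => ¬ 2 ≤ A.card),
      e ^ A.card * (∏ i ∈ A, s i) * U ^ (Fintype.card ι - A.card) =
      U ^ Fintype.card ι + e * U ^ (Fintype.card ι - 1) := by
    have hset : (Finset.univ : Finset (Finset ι)).filter (fun A => ¬ 2 ≤ A.card) =
        insert ∅ (Finset.univ.map ⟨fun i => ({i} : Finset ι), Finset.singleton_injective⟩) := by
      ext A
      simp only [Finset.mem_filter, Finset.mem_univ, true_and, Finset.mem_insert, Finset.mem_map,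
        Function.Embedding.coeFn_mk, not_le]
      refine ⟨fun h => ?_, fun h => ?_⟩
      · rcases Nat.le_one_iff_eq_zero_or_eq_one.1 (Nat.lt_succ_iff.1 h) with h0 | h1
        · exact Or.inl (Finset.card_eq_zero.1 h0)
        · exact Or.inr ((Finset.card_eq_one.1 h1).imp fun i hi => hi.symm)
      · rcases h with rfl | ⟨i, rfl⟩
        · simp
        · simp
    rw [hset, Finset.sum_insert (by simp), Finset.sum_map]
    simp only [Finset.card_empty, pow_zero, Finset.prod_empty, mul_one, one_mul, Nat.sub_zero,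
      Function.Embedding.coeFn_mk, Finset.card_singleton, pow_one, Finset.prod_singleton]
    rw [← Finset.sum_mul, ← Finset.mul_sum, hs, mul_one]
  have h3 : ∑ A ∈ (Finset.univ : Finset (Finset ι)).filter (fun A => 2 ≤ A.card),
      e ^ A.card * (∏ i ∈ A, s i) * U ^ (Fintype.card ι - A.card) =
      e * ∑ A ∈ (Finset.univ : Finset (Finset ι)).filter (fun A => 2 ≤ A.card),
        e ^ (A.card - 1) * (∏ i ∈ A, s i) * U ^ (Fintype.card ι - A.card) := by
    rw [Finset.mul_sum]
    refine Finset.sum_congr rfl fun A hA => ?_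
    obtain ⟨m, hm⟩ := Nat.exists_eq_succ_of_ne_zero (n := A.card) (by
      have := (Finset.mem_filter.1 hA).2; omega)
    rw [hm, Nat.succ_sub_one, pow_succ]
    ring
  rw [h2, h3]
  ring

theorem monic_normPoly [Nonempty ι] [Nontrivial C] (e : C) (s : ι → C) : (normPoly e s).Monic := by
  rw [normPoly, sub_sub]
  refine monic_X_pow_sub ?_
  refine (degree_add_le _ _).trans_lt (max_lt ?_ ?_)
  · rw [degree_X_pow]
    exact_mod_cast Nat.sub_lt Fintype.card_pos one_pos
  · refine (degree_sum_le _ _).trans_lt ((Finset.sup_lt_iff (WithBot.bot_lt_coe _)).2 fun A hA => ?_)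
    refine (degree_C_mul_X_pow_le _ _).trans_lt ?_
    exact_mod_cast Nat.sub_lt Fintype.card_pos (by have := (Finset.mem_filter.1 hA).2; omega)

theorem eval_one_mem (e : C) (s : ι → C) (I : Ideal C) (he : e ∈ I) : (normPoly e s).eval 1 ∈ I := by
  rw [normPoly, eval_sub, eval_sub, eval_pow, eval_X, eval_pow, eval_X, eval_finsetSum, one_pow, one_pow, sub_self,
    zero_sub]
  refine neg_mem (Ideal.sum_mem I fun A hA => ?_)
  rw [eval_mul, eval_C]
  refine I.mul_mem_right _ (I.mul_mem_right _ (Ideal.pow_mem_of_mem I he _ ?_))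
  have := (Finset.mem_filter.1 hA).2
  omega

theorem derivative_eval_one_sub_one_mem [Nonempty ι] (e : C) (s : ι → C) (I : Ideal C) (he : e ∈ I) :
    (normPoly e s).derivative.eval 1 - 1 ∈ I := by
  have hd : ((Fintype.card ι : ℕ) : C) = ((Fintype.card ι - 1 : ℕ) : C) + 1 := by
    rw [← Nat.cast_add_one, Nat.sub_add_cancel Fintype.card_pos]
  rw [normPoly, derivative_sub, derivative_sub, derivative_X_pow, derivative_X_pow, derivative_sum, eval_sub,
    eval_sub, eval_finsetSum]
  simp only [eval_mul, eval_C, eval_pow, eval_X, one_pow, mul_one, derivative_C_mul_X_pow]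
  rw [hd, add_sub_cancel_left, sub_sub, add_comm, ← sub_sub, sub_self, zero_sub]
  refine neg_mem (Ideal.sum_mem I fun A hA => ?_)
  refine I.mul_mem_right _ (I.mul_mem_right _ (Ideal.pow_mem_of_mem I he _ ?_))
  have := (Finset.mem_filter.1 hA).2
  omega

theorem map_normPoly {D : Type u} [CommRing D] (φ : C →+* D) (e : C) (s : ι → C) :
    (normPoly e s).map φ = normPoly (φ e) fun i => φ (s i) := by
  simp only [normPoly, Polynomial.map_sub, Polynomial.map_pow, Polynomial.map_X, Polynomial.map_sum, Polynomial.map_mul,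
    Polynomial.map_C, Polynomial.map_prod, map_mul, map_pow, map_prod]

theorem normPoly_comp_equiv (e : C) (s : ι → C) (σ : ι ≃ ι) : normPoly e (fun i => s (σ i)) = normPoly e s := by
  rw [normPoly, normPoly]
  refine congrArg (fun t => X ^ Fintype.card ι - X ^ (Fintype.card ι - 1) - t) ?_
  refine Finset.sum_equiv σ.finsetCongr (fun A => ?_) fun A _ => ?_
  · simp [Equiv.finsetCongr_apply]
  · simp [Equiv.finsetCongr_apply, Finset.prod_map]

/-- Norms of units congruent to one. -/
theorem exists_prod_eq [HenselianLocalRing C] [Nonempty ι] (a : ι → C →+* C) (σ : ι → ι ≃ ι)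
    (hσ : ∀ g h x, a g (a h x) = a (σ g h) x) (t : C) (ht : ∑ g, a g t = 1) (J : Ideal C) (hJ : J ≤ maximalIdeal C)
    (e : C) (he : e ∈ J) (hae : ∀ g, a g e = e) (ham : ∀ g x, x ∈ maximalIdeal C → a g x ∈ maximalIdeal C) :
    ∃ x : C, IsUnit x ∧ ∏ g, a g x = 1 + e ∧ x - 1 ∈ J := by
  let s : ι → C := fun g => a g t
  let f := normPoly e s
  have hem := hJ he
  have hd1 := derivative_eval_one_sub_one_mem e s (maximalIdeal C) hem
  have hu : IsUnit (f.derivative.eval 1) := by
    by_contra hc
    have h1 : (1 : C) ∈ maximalIdeal C := by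
      have h2 := Ideal.sub_mem _ hc hd1
      rwa [sub_sub_cancel] at h2
    exact h1 isUnit_one
  obtain ⟨U, hU, hU1⟩ := HenselianLocalRing.is_henselian f (monic_normPoly e s) 1
    (eval_one_mem e s _ hem) hu
  have hUu : IsUnit U := by
    by_contra hc
    have h2 := Ideal.sub_mem _ hc hU1
    rw [sub_sub_cancel] at h2
    exact h2 isUnit_one
  have hinv : ∀ g, a g U = U := fun g => by
    have hf : f.map (a g) = f := by
      rw [map_normPoly, hae]
      simp only [s, hσ]
      exact normPoly_comp_equiv e s (σ g)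
    have hr : f.IsRoot (a g U) := by
      show f.eval (a g U) = 0
      rw [← hf, eval_map, eval₂_at_apply, hU, map_zero]
    refine (HenselLib.root_eq_of_sub_mem (maximalIdeal_le_jacobson ⊥) hU hr ?_ ?_).symm
    · refine IsUnit.map _ ?_
      by_contra hc
      have hcong : f.derivative.eval U - f.derivative.eval 1 ∈ maximalIdeal C := by
        obtain ⟨w, hw⟩ := f.derivative.sub_dvd_eval_sub U 1
        rw [hw]
        exact Ideal.mul_mem_right _ _ hU1
      have h2 := Ideal.sub_mem _ hc hcong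
      rw [sub_sub_cancel] at h2
      exact h2 hu
    · have h2 := ham g _ hU1
      rw [map_sub, map_one] at h2
      rw [← sub_sub_sub_cancel_right (a g U) U 1]
      exact Ideal.sub_mem _ h2 hU1
  obtain ⟨U, rfl⟩ := hUu
  let x := 1 + t * e * (↑U⁻¹ : C)
  have hainv : ∀ g, a g (↑U⁻¹ : C) = ↑U⁻¹ := fun g => by
    refine left_inv_eq_right_inv (a := (U : C)) ?_ (Units.mul_inv U)
    rw [← hinv g, ← map_mul, Units.inv_mul, map_one]
  have hx1 : x - 1 ∈ J := by
    rw [add_sub_cancel_left]
    exact J.mul_mem_right _ (J.mul_mem_left _ he)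
  refine ⟨x, ?_, ?_, hx1⟩
  · by_contra hc
    have h2 := Ideal.sub_mem _ hc (hJ hx1)
    rw [sub_sub_cancel] at h2
    exact h2 isUnit_one
  · have h2 : ∀ g, a g x = ((U : C) + e * s g) * (↑U⁻¹ : C) := fun g => by
      rw [map_add, map_mul, map_mul, map_one, hae, hainv, add_mul, Units.mul_inv, mul_comm (a g t)]
    rw [Finset.prod_congr rfl fun g _ => h2 g, Finset.prod_mul_distrib, prod_add_eq e s ht, Finset.prod_const,
      Finset.card_univ, show (normPoly e s).eval (U : C) = 0 from hU, sub_zero, ← one_add_mul, mul_assoc,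
      ← mul_pow, Units.mul_inv, one_pow, mul_one]

section Galois

variable {B : Type u} [CommRing B] [HenselianLocalRing B] {L : Type u} [Field L] (π : B →+* L)
  (M : Type u) [Field M] [Algebra L M] [FiniteDimensional L M] [IsGalois L M]

/-- The lift of a Galois extension with its norm. -/
theorem exists_galois_lift (hπ : Function.Surjective π) :
    ∃ (C : Type u) (_ : CommRing C) (_ : Algebra B C),
      Algebra.Etale B C ∧ ∃ (ρ : C →+* M) (a : (M ≃ₐ[L] M) → (C →ₐ[B] C)),
        ρ.comp (algebraMap B C) = (algebraMap L M).comp π ∧ (∀ g x, ρ (a g x) = g (ρ x)) ∧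
        ∀ J : Ideal B, J ≠ ⊤ → ∀ α : B, α - 1 ∈ J →
          ∃ x : C, IsUnit x ∧ ∏ g : M ≃ₐ[L] M, a g x = algebraMap B C α ∧ x - 1 ∈ J.map (algebraMap B C) := by
  classical
  obtain ⟨C, iC, iA, hC, hfin, het, ρ, hρs, hρc, hex, huniq⟩ := exists_lift π hπ M
  haveI := hC
  haveI := hfin
  haveI : IsLocalHom ρ := isLocalHom_of_surj ρ hρs
  choose a ha using fun g : M ≃ₐ[L] M => hex (g : M →ₐ[L] M)
  have hσ : ∀ (g h : M ≃ₐ[L] M) (x : C), a g (a h x) = a (g * h) x := fun g h x =>
    DFunLike.congr_fun (huniq ((a g).comp (a h)) (a (g * h)) fun y => by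
      show ρ (a g (a h y)) = _
      rw [ha, ha, ha]
      rfl) x
  have hmem : ∀ y : C, y ∈ maximalIdeal C ↔ ρ y = 0 := fun y => by
    rw [← ker_eq_maximalIdeal ρ hρs]
    rfl
  have ham : ∀ g x, x ∈ maximalIdeal C → (a g).toRingHom x ∈ maximalIdeal C := fun g x hx => by
    rw [hmem] at hx ⊢
    show ρ (a g x) = 0
    rw [ha, hx, map_zero]
  obtain ⟨y, hy⟩ : ∃ y : M, Algebra.trace L M y ≠ 0 := by
    by_contra hc
    push Not at hc
    exact Algebra.trace_ne_zero L M (LinearMap.ext hc)
  obtain ⟨t₀, rfl⟩ := hρs y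
  let S := ∑ g : M ≃ₐ[L] M, a g t₀
  have hSρ : ρ S = algebraMap L M (Algebra.trace L M (ρ t₀)) := by
    rw [map_sum, trace_eq_sum_automorphisms]
    exact Finset.sum_congr rfl fun g _ => ha g t₀
  have hS : IsUnit S := IsUnit.of_map ρ S (isUnit_iff_ne_zero.2 (by
    rw [hSρ]
    exact (_root_.map_ne_zero _).2 hy))
  obtain ⟨S', hS'⟩ := hS
  have hSinv : ∀ g, a g S = S := fun g => by
    rw [map_sum]
    simp only [hσ]
    exact Fintype.sum_equiv (Equiv.mulLeft g) _ _ fun h => rfl
  have ht : ∑ g : M ≃ₐ[L] M, a g (t₀ * (↑S'⁻¹ : C)) = 1 := by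
    have h2 : ∀ g, a g (↑S'⁻¹ : C) = ↑S'⁻¹ := fun g => by
      refine left_inv_eq_right_inv (a := (S' : C)) ?_ (Units.mul_inv S')
      rw [hS', ← hSinv g, ← map_mul, ← hS', Units.inv_mul, map_one]
    simp only [map_mul, h2, ← Finset.sum_mul]
    show S * _ = 1
    rw [← hS', Units.mul_inv]
  refine ⟨C, iC, iA, het, ρ, a, hρc, fun g x => ha g x, fun J hJ α hα => ?_⟩
  have hJC : J.map (algebraMap B C) ≤ maximalIdeal C := by
    haveI := isLocalHom_of_surj π hπ
    refine Ideal.map_le_iff_le_comap.2 fun b hb => ?_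
    show algebraMap B C b ∈ maximalIdeal C
    rw [hmem]
    show (ρ.comp (algebraMap B C)) b = 0
    have h3 : b ∈ RingHom.ker π := by
      rw [ker_eq_maximalIdeal π hπ]
      exact le_maximalIdeal hJ hb
    rw [hρc, RingHom.comp_apply, RingHom.mem_ker.1 h3, map_zero]
  have he : algebraMap B C α - 1 ∈ J.map (algebraMap B C) := by
    have h4 := Ideal.mem_map_of_mem (algebraMap B C) hα
    rwa [map_sub, map_one] at h4
  have hae : ∀ g, (a g).toRingHom (algebraMap B C α - 1) = algebraMap B C α - 1 := fun g => by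
    show a g (algebraMap B C α - 1) = _
    rw [map_sub, map_one, AlgHom.commutes]
  obtain ⟨x, hx, hp, hxJ⟩ := exists_prod_eq (fun g => (a g).toRingHom) (fun g => Equiv.mulLeft g) hσ _ ht
    (J.map (algebraMap B C)) hJC (algebraMap B C α - 1) he hae ham
  exact ⟨x, hx, hp.trans (add_sub_cancel _ _), hxJ⟩

end Galois

end EtHensGmLib

end
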