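import Groth.Agent.LocAcycStalkLib.Unit
import Groth.Agent.EtHensLib.Basic

/-!
# Pulling sections back along a commutative square
-/

set_option autoImplicit false
set_option linter.unusedSectionVars false
set_option linter.style.haveILetI false
set_option backward.isDefEq.respectTransparency false
set_option backward.isDefEq.respectTransparency.types false
set_option synthInstance.maxHeartbeats 400000
set_option maxHeartbeats 1000000

universe u

open CategoryTheory CategoryTheory.Limits CategoryTheory.Abelian AlgebraicGeometry Opposite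
open Groth.Agent.EtShLib DescSecLib EtSliceLib

noncomputable section

namespace EtHensGmLib

variable {A C : Scheme.{u}} (h : A ⟶ C)

/-- The map into the base change. -/
def toBcOf {U : A.Etale} {V : C.Etale} (f : U.left ⟶ V.left) (w : f ≫ V.hom = U.hom ≫ h) :
    U ⟶ (EtCoh.bc h).obj V :=
  MorphismProperty.Over.homMk (pullback.lift f U.hom w) (pullback.lift_snd _ _ _)

/-- A section pulled back along a square. -/
def tr (G : EtCoh.Ab C) {U : A.Etale} {V : C.Etale} (f : U.left ⟶ V.left) (w : f ≫ V.hom = U.hom ≫ h) :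
    G.obj.obj (op V) ⟶ ((EtCoh.pull h).obj G).obj.obj (op U) :=
  ((EtCoh.pullPushAdj h).unit.app G).hom.app (op V) ≫ ((EtCoh.pull h).obj G).obj.map (toBcOf h f w).op

theorem tr_natural (G : EtCoh.Ab C) {U U' : A.Etale} {V V' : C.Etale} (φ : U' ⟶ U) (ψ : V' ⟶ V)
    (f : U.left ⟶ V.left) (w : f ≫ V.hom = U.hom ≫ h) (f' : U'.left ⟶ V'.left) (w' : f' ≫ V'.hom = U'.hom ≫ h)
    (e : φ.left ≫ f = f' ≫ ψ.left) (s : ToType (G.obj.obj (op V))) :
    ((EtCoh.pull h).obj G).obj.map φ.op (tr h G f w s) = tr h G f' w' (G.obj.map ψ.op s) := by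
  have hj : φ ≫ toBcOf h f w = toBcOf h f' w' ≫ (EtCoh.bc h).map ψ := by
    refine bc_hom_ext h _ _ ?_
    show (φ.left ≫ (toBcOf h f w).left) ≫ pullback.fst V.hom h =
      ((toBcOf h f' w').left ≫ ((EtCoh.bc h).map ψ).left) ≫ pullback.fst V.hom h
    rw [Category.assoc, Category.assoc, DescSecLib.bc_map_fst]
    exact ((congrArg (φ.left ≫ ·) (pullback.lift_fst f U.hom w)).trans e).trans
      (((congrArg (· ≫ ψ.left) (pullback.lift_fst f' U'.hom w').symm)).trans (Category.assoc _ _ _))
  show ((EtCoh.pull h).obj G).obj.map φ.op (((EtCoh.pull h).obj G).obj.map (toBcOf h f w).op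
      (((EtCoh.pullPushAdj h).unit.app G).hom.app (op V) s)) =
    ((EtCoh.pull h).obj G).obj.map (toBcOf h f' w').op
      (((EtCoh.pullPushAdj h).unit.app G).hom.app (op V') (G.obj.map ψ.op s))
  rw [← ConcreteCategory.comp_apply (((EtCoh.pull h).obj G).obj.map (toBcOf h f w).op), ← Functor.map_comp,
    ← op_comp, hj, op_comp, Functor.map_comp, ConcreteCategory.comp_apply]
  refine congrArg (((EtCoh.pull h).obj G).obj.map (toBcOf h f' w').op) ?_
  exact (NatTrans.naturality_apply ((EtCoh.pullPushAdj h).unit.app G).hom ψ.op s).symm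

/-- Sections over an étale object are global sections of the inverse image. -/
theorem bijective_tr_diag (W : C.Etale) (G : EtCoh.Ab C)
    (w : 𝟙 W.left ≫ W.hom = (EtCoh.top W.left).hom ≫ W.hom) :
    Function.Bijective (tr W.hom G (U := EtCoh.top W.left) (V := W) (𝟙 W.left) w) := by
  have e : toBcOf W.hom (U := EtCoh.top W.left) (V := W) (𝟙 W.left) w = EtSliceLib.diag W := by
    refine bc_hom_ext W.hom _ _ ?_
    rw [toBcOf, EtSliceLib.diag]
    exact (pullback.lift_fst _ _ _).trans (pullback.lift_fst _ _ _).symm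
  have h := bijective_sa W G
  rw [sa] at h
  unfold tr
  rw [e]
  exact h

/-- Global sections of the inverse image. -/
theorem bijective_tr_top (G : EtCoh.Ab C) [PreservesFiniteLimits (EtCoh.pull h)]
    (hb : Function.Bijective (EtCore.Hpull h G 0))
    (w : h ≫ (EtCoh.top C).hom = (EtCoh.top A).hom ≫ h) :
    Function.Bijective (tr h G (U := EtCoh.top A) (V := EtCoh.top C) h w) := by
  have hj : toBcOf h (U := EtCoh.top A) (V := EtCoh.top C) h w = (EtCore.bcTopIso h).inv :=
    (cancel_mono (EtCore.bcTopIso h).hom).1 ((EtCore.topIsTerminal A).hom_ext _ _)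
  have key : ∀ e : EtCoh.H C G 0, tr h G (U := EtCoh.top A) (V := EtCoh.top C) h w (EtContLib.sec e) =
      EtContLib.sec (EtCore.Hpull h G 0 e) := fun e => by
    unfold tr
    rw [ConcreteCategory.comp_apply, hj]
    exact (LocAcycStalkLib.sec_Hpull h G e).symm
  revert key
  generalize tr h G (U := EtCoh.top A) (V := EtCoh.top C) h w = T
  intro key
  refine ⟨(injective_iff_map_eq_zero T.hom).2 fun x hx => ?_, fun y => ?_⟩
  · obtain ⟨e, rfl⟩ := EtContLib.sec_surjective x
    have h3 : EtContLib.sec (EtCore.Hpull h G 0 e) = 0 := (key e).symm.trans hx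
    have h2 : e = 0 := hb.1 ((EtContLib.sec_eq_zero h3).trans (map_zero (EtCore.Hpull h G 0)).symm)
    rw [h2]
    exact EtContLib.sec_zero
  · obtain ⟨e', rfl⟩ := EtContLib.sec_surjective y
    obtain ⟨e, he⟩ := hb.2 e'
    exact ⟨EtContLib.sec e, (key e).trans (congrArg EtContLib.sec he)⟩

/-- Sections of a kernel. -/
theorem exists_kernel_sec {F G : EtCoh.Ab C} (u : F ⟶ G) {U : C.Etale} (s : ToType (F.obj.obj (op U)))
    (hs : u.hom.app (op U) s = 0) :
    ∃ x : ToType ((kernel u).obj.obj (op U)), (kernel.ι u).hom.app (op U) x = s := by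
  have h0 : desc U s ≫ u = 0 := free_hom_ext U (by
    show u.hom.app (op U) ((desc U s).hom.app (op U) (gen U)) = _
    rw [desc_gen, hs]
    rfl)
  refine ⟨(kernel.lift u (desc U s) h0).hom.app (op U) (gen U), ?_⟩
  exact (congrArg (fun t : free U ⟶ F => t.hom.app (op U) (gen U)) (kernel.lift_ι u (desc U s) h0)).trans
    (desc_gen U s)

theorem kernel_sec_ext {F G : EtCoh.Ab C} (u : F ⟶ G) {U : C.Etale} (x y : ToType ((kernel u).obj.obj (op U)))
    (e : (kernel.ι u).hom.app (op U) x = (kernel.ι u).hom.app (op U) y) : x = y := by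
  have h0 : desc U x = desc U y := (cancel_mono (kernel.ι u)).1 (free_hom_ext U (by
    show (kernel.ι u).hom.app (op U) ((desc U x).hom.app (op U) (gen U)) =
      (kernel.ι u).hom.app (op U) ((desc U y).hom.app (op U) (gen U))
    rw [desc_gen, desc_gen, e]))
  rw [← desc_gen U x, h0, desc_gen]

end EtHensGmLib

end
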