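import Groth.Agent.EtHensGmLib.Epi
import Groth.Agent.EtHensGmLib.Tr
import Mathlib.RingTheory.TensorProduct.Quotient

/-!
# Units on affine étale objects
-/

set_option autoImplicit false
set_option linter.unusedSectionVars false
set_option linter.style.haveILetI false
set_option backward.isDefEq.respectTransparency false
set_option backward.isDefEq.respectTransparency.types false
set_option synthInstance.maxHeartbeats 400000
set_option maxHeartbeats 1000000

universe u

open CategoryTheory CategoryTheory.Limits CategoryTheory.Abelian AlgebraicGeometry Opposite TensorProduct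
open Groth.Agent.EtShLib DescSecLib MuConstLib

noncomputable section

namespace EtHensGmLib

variable (R : Type u) [CommRing R] (C : Type u) [CommRing C] [Algebra R C] [Algebra.Etale R C]

instance etale_algSpec : AlgebraicGeometry.Etale (Spec.map (CommRingCat.ofHom (algebraMap R C))) :=
  (HasRingHomProperty.Spec_iff (P := @AlgebraicGeometry.Etale)).2 (RingHom.etale_algebraMap.2 ‹_›)

/-- The affine étale object. -/
abbrev etOf : (Spec (CommRingCat.of R)).Etale :=
  Scheme.Etale.mk (Spec.map (CommRingCat.ofHom (algebraMap R C)))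

variable {C} {C' : Type u} [CommRing C'] [Algebra R C'] [Algebra.Etale R C']

/-- Functoriality. -/
abbrev etMap (φ : C →+* C') (hφ : φ.comp (algebraMap R C) = algebraMap R C') : etOf R C' ⟶ etOf R C :=
  MorphismProperty.Over.homMk (Spec.map (CommRingCat.ofHom φ)) (by
    show Spec.map _ ≫ Spec.map _ = Spec.map _
    rw [← Spec.map_comp, ← CommRingCat.ofHom_comp, hφ])

variable (C)

/-- A unit as a section. -/
def gmu (c : Cˣ) : ToType ((EtCoh.Gm (Spec (CommRingCat.of R))).obj.obj (op (etOf R C))) :=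
  ULift.up (Additive.ofMul (α := Γ(Spec (CommRingCat.of C), ⊤)ˣ)
    (Units.map (Scheme.ΓSpecIso (CommRingCat.of C)).inv.hom.toMonoidHom c))

theorem gmu_surjective : Function.Surjective (gmu R C) :=
  ULift.up_bijective.surjective.comp (Additive.ofMul.bijective.surjective.comp
    (Units.mapEquiv (Scheme.ΓSpecIso (CommRingCat.of C)).symm.commRingCatIsoToRingEquiv.toMulEquiv).surjective)

theorem gmu_mul (x y : Cˣ) : gmu R C (x * y) = gmu R C x + gmu R C y :=
  congrArg (fun t => ULift.up (Additive.ofMul t)) (map_mul _ x y)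

theorem gmu_prod {ι : Type*} (s : Finset ι) (f : ι → Cˣ) :
    gmu R C (∏ i ∈ s, f i) = ∑ i ∈ s, gmu R C (f i) := by
  classical
  induction s using Finset.induction_on with
  | empty =>
    rw [Finset.prod_empty, Finset.sum_empty]
    have h := gmu_mul R C 1 1
    rw [one_mul] at h
    exact left_eq_add.1 h
  | insert a s ha ih => rw [Finset.prod_insert ha, Finset.sum_insert ha, gmu_mul, ih]

theorem map_gmu (φ : C →+* C') (hφ : φ.comp (algebraMap R C) = algebraMap R C') (c : Cˣ) :
    (EtCoh.Gm (Spec (CommRingCat.of R))).obj.map (etMap R φ hφ).op (gmu R C c) =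
      gmu R C' (Units.map φ.toMonoidHom c) := by
  refine congrArg (fun t => ULift.up (Additive.ofMul t)) (Units.ext ?_)
  exact (congrArg (fun t : CommRingCat.of C ⟶ _ => t.hom (c : C))
    (Scheme.ΓSpecIso_inv_naturality (CommRingCat.ofHom φ))).symm

variable (I : Ideal R)

/-- The closed subscheme. -/
abbrev zI : Spec (CommRingCat.of (R ⧸ I)) ⟶ Spec (CommRingCat.of R) :=
  Spec.map (CommRingCat.ofHom (Ideal.Quotient.mk I))

instance isClosedImmersion_zI : IsClosedImmersion (zI R I) :=
  IsClosedImmersion.spec_of_surjective _ Ideal.Quotient.mk_surjective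

theorem fst_appTop_eq_one_iff (c : C) :
    (pullback.fst (etOf R C).hom (zI R I)).appTop ((Scheme.ΓSpecIso (CommRingCat.of C)).inv c) = 1 ↔
      c - 1 ∈ I.map (algebraMap R C) := by
  let a : Spec (CommRingCat.of C) ⟶ Spec (CommRingCat.of R) := Spec.map (CommRingCat.ofHom (algebraMap R C))
  let e := pullbackSpecIso R C (R ⧸ I)
  let il : CommRingCat.of C ⟶ CommRingCat.of (C ⊗[R] (R ⧸ I)) :=
    CommRingCat.ofHom Algebra.TensorProduct.includeLeftRingHom
  have he : e.hom ≫ Spec.map il = pullback.fst a (zI R I) := pullbackSpecIso_hom_fst R C (R ⧸ I)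
  have key : (pullback.fst a (zI R I)).appTop ((Scheme.ΓSpecIso (CommRingCat.of C)).inv c) =
      e.hom.appTop ((Scheme.ΓSpecIso _).inv (il c)) := by
    rw [← he, Scheme.Hom.comp_appTop]
    refine congrArg e.hom.appTop ?_
    exact (congrArg (fun t : CommRingCat.of C ⟶ _ => t.hom c) (Scheme.ΓSpecIso_inv_naturality il)).symm
  have hinj : Function.Injective fun x : C ⊗[R] (R ⧸ I) =>
      e.hom.appTop ((Scheme.ΓSpecIso (CommRingCat.of (C ⊗[R] (R ⧸ I)))).inv x) :=
    (ConcreteCategory.bijective_of_isIso e.hom.appTop).1.comp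
      (ConcreteCategory.bijective_of_isIso (Scheme.ΓSpecIso (CommRingCat.of (C ⊗[R] (R ⧸ I)))).inv).1
  show (pullback.fst a (zI R I)).appTop _ = 1 ↔ _
  rw [key, ← Ideal.Quotient.mk_eq_mk_iff_sub_mem, map_one]
  refine ⟨fun h => ?_, fun h => ?_⟩
  · have h2 : il c = 1 := hinj (h.trans (((congrArg e.hom.appTop.hom (map_one _)).trans (map_one _)).symm))
    apply (Algebra.TensorProduct.quotIdealMapEquivTensorQuot C I).injective
    rw [map_one]
    exact h2
  · have h2 : il c = 1 := by
      refine (Algebra.TensorProduct.quotIdealMapEquivTensorQuot_mk C I c).symm.trans ?_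
      rw [h, map_one]
    rw [h2, map_one, map_one]

theorem gmu_mem_kernel_iff (c : Cˣ) :
    (EtLim.GmPush (zI R I)).hom.app (op (etOf R C)) (gmu R C c) = 0 ↔ (c : C) - 1 ∈ I.map (algebraMap R C) := by
  rw [← fst_appTop_eq_one_iff R C I (c : C)]
  refine ⟨fun h => ?_, fun h => ?_⟩
  · exact congrArg (gmVal _ (W := (EtCoh.bc (zI R I)).obj (etOf R C))) h
  · exact gmVal_injective _ (W := (EtCoh.bc (zI R I)).obj (etOf R C)) h

theorem exists_gmu_lift [IsLocalRing C]
    (t : ToType (((EtCoh.push (zI R I)).obj (EtCoh.Gm (Spec (CommRingCat.of (R ⧸ I))))).obj.obj (op (etOf R C)))) :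
    ∃ c : Cˣ, (EtLim.GmPush (zI R I)).hom.app (op (etOf R C)) (gmu R C c) = t := by
  let p : ((EtCoh.bc (zI R I)).obj (etOf R C)).left ⟶ Spec (CommRingCat.of C) :=
    pullback.fst (etOf R C).hom (zI R I)
  haveI : IsClosedImmersion p := inferInstanceAs (IsClosedImmersion (pullback.fst (etOf R C).hom (zI R I)))
  let v := gmVal _ (W := (EtCoh.bc (zI R I)).obj (etOf R C)) t
  let f : C →+* Γ(((EtCoh.bc (zI R I)).obj (etOf R C)).left, ⊤) :=
    p.appTop.hom.comp (Scheme.ΓSpecIso (CommRingCat.of C)).inv.hom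
  have hf : Function.Surjective f := (IsClosedImmersion.isAffine_surjective_of_isAffine p).2.comp
    (ConcreteCategory.bijective_of_isIso (Scheme.ΓSpecIso (CommRingCat.of C)).inv).2
  obtain ⟨g, hg, hgv⟩ : ∃ g : C, IsUnit g ∧ f g = v := by
    rcases subsingleton_or_nontrivial Γ(((EtCoh.bc (zI R I)).obj (etOf R C)).left, ⊤) with hs | hn
    · exact ⟨1, isUnit_one, Subsingleton.elim _ _⟩
    · obtain ⟨g, hg⟩ := hf v
      haveI : IsLocalHom f := IsLocalHom.of_surjective f hf
      exact ⟨g, IsUnit.of_map f g (hg ▸ Units.isUnit _), hg⟩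
  exact ⟨hg.unit, gmVal_injective _ (W := (EtCoh.bc (zI R I)).obj (etOf R C)) hgv⟩

end EtHensGmLib

end
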