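import Groth.Agent.EtHensGmLib.Fields
import Groth.Agent.EtHensGmLib.Norm
import Groth.Agent.EtHensGmLib.Sect
import Groth.Agent.ParaFLib.Local
import Groth.Agent.CovDevLib.Basis
import Groth.Agent.S0236

/-!
# `G_m` on a henselian local scheme and its closed subschemes
-/

set_option autoImplicit false
set_option linter.unusedSectionVars false
set_option linter.style.haveILetI false
set_option backward.isDefEq.respectTransparency false
set_option backward.isDefEq.respectTransparency.types false
set_option synthInstance.maxHeartbeats 400000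
set_option maxHeartbeats 1000000

universe u

open CategoryTheory CategoryTheory.Limits CategoryTheory.Abelian AlgebraicGeometry Opposite
open Groth.Agent.EtShLib EtSliceLib EtTransferLib EtKummerLib EtBrLib

noncomputable section

namespace EtHensGmLib

variable {R : Type u} [CommRing R] (I : Ideal R)

/-- The units congruent to one. -/
abbrev KI : EtCoh.Ab (Spec (CommRingCat.of R)) := kernel (EtLim.GmPush (zI R I))

/-- The structure map. -/
abbrev aS (A B : Type u) [CommRing A] [CommRing B] [Algebra A B] :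
    Spec (CommRingCat.of B) ⟶ Spec (CommRingCat.of A) :=
  Spec.map (CommRingCat.ofHom (algebraMap A B))

theorem subsingleton_H1_Gm_local (B : Type u) [CommRing B] [IsLocalRing B] :
    Subsingleton (EtCoh.H (Spec (CommRingCat.of B)) (EtCoh.Gm (Spec (CommRingCat.of B))) 1) := by
  refine (Groth.Agent.S0236.result _).2 fun L hL => ?_
  obtain ⟨U, hU, ⟨e⟩⟩ := hL (IsLocalRing.closedPoint B)
  obtain ⟨σ, hσ⟩ := ParaFLib.exists_genOn_of_iso e
  obtain rfl := ParaFLib.eq_top_of_closedPoint_mem B hU
  haveI := AmpleLib.isIso_unitHom σ hσ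
  exact ⟨(asIso (QCohLib.unitHom L σ)).symm⟩

variable (B : Type u) [CommRing B] [Algebra R B] [Algebra.Etale R B]

theorem subsingleton_ext_free_Gm [IsLocalRing B] :
    Subsingleton (Ext.{u + 1} (free (etOf R B)) (EtCoh.Gm (Spec (CommRingCat.of R))) 1) := by
  let W := etOf R B
  haveI : AlgebraicGeometry.Etale W.hom := W.prop
  haveI := DivSeqLib.isIso_thetaGm W.hom
  refine ⟨fun a b => (psi_bijective W 1 _).1 (sub_eq_zero.1 ?_)⟩
  refine EtContLib.ext_eq_zero_of_comp _ (DivSeqLib.thetaGm W.hom) inferInstance ?_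
  exact (subsingleton_H1_Gm_local B).elim _ _

theorem subsingleton_ext_free_KI [IsLocalRing B] :
    Subsingleton (Ext.{u + 1} (free (etOf R B)) (KI I) 1) := by
  haveI := epi_GmPush (zI R I)
  let S := ShortComplex.mk (kernel.ι (EtLim.GmPush (zI R I))) (EtLim.GmPush (zI R I)) (kernel.condition _)
  have hS : S.ShortExact :=
    { exact := ShortComplex.exact_of_f_is_kernel _ (kernelIsKernel (EtLim.GmPush (zI R I))) }
  refine subsingleton_of_forall_eq 0 fun x => ?_
  obtain ⟨y, rfl⟩ := Ext.covariant_sequence_exact₁ (free (etOf R B)) hS x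
    ((subsingleton_ext_free_Gm (R := R) B).elim _ _) rfl
  obtain ⟨g, rfl⟩ := (Ext.mk₀_bijective _ _).2 y
  obtain ⟨c, hc⟩ := exists_gmu_lift R B I (g.hom.app (op (etOf R B)) (gen (etOf R B)))
  have hg : g = desc (etOf R B) (gmu R B c) ≫ S.g := free_hom_ext (etOf R B) (by
    show _ = (EtLim.GmPush (zI R I)).hom.app (op (etOf R B)) ((desc (etOf R B) (gmu R B c)).hom.app _ (gen _))
    rw [desc_gen, hc])
  rw [hg, ← Ext.mk₀_comp_mk₀, Ext.comp_assoc_of_second_deg_zero, hS.comp_extClass, Ext.comp_zero]

theorem subsingleton_H1_pull_KI [IsLocalRing B] :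
    Subsingleton (EtCoh.H (Spec (CommRingCat.of B)) ((EtCoh.pull (aS R B)).obj (KI I)) 1) :=
  haveI := subsingleton_ext_free_KI I B
  (psi_bijective (etOf R B) 1 (KI I)).2.subsingleton

theorem bijective_Hpull_point [HenselianLocalRing B] {L : Type u} [Field L] (π : B →+* L)
    (hπ : Function.Surjective π) (G : EtCoh.Ab (Spec (CommRingCat.of B))) (n : ℕ) :
    Function.Bijective (EtCore.Hpull (Spec.map (CommRingCat.ofHom π)) G n) := by
  haveI := isLocalHom_of_surj π hπ
  let j : CommRingCat.of (IsLocalRing.ResidueField B) ⟶ CommRingCat.of L :=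
    CommRingCat.ofHom (IsLocalRing.ResidueField.lift π)
  haveI : IsIso j := by
    refine (ConcreteCategory.isIso_iff_bijective j).2 ⟨RingHom.injective _, fun y => ?_⟩
    obtain ⟨x, rfl⟩ := hπ y
    exact ⟨IsLocalRing.residue B x, IsLocalRing.ResidueField.lift_residue_apply π x⟩
  have w : Spec.map j ≫ EtHensLib.cp B = Spec.map (CommRingCat.ofHom π) := by
    rw [← Spec.map_comp]
    exact congrArg Spec.map (CommRingCat.hom_ext (IsLocalRing.ResidueField.lift_comp_residue π))
  obtain ⟨φ, hφ, e⟩ := CovDevLib.Hpull_iso_comp (Spec.map j) (EtHensLib.cp B) _ w G n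
  rw [e]
  exact hφ.comp (EtHensLib.bijective_Hpull (A := B) G n)

theorem exists_sec [IsLocalRing B] (c : Bˣ) (hc : (c : B) - 1 ∈ I.map (algebraMap R B)) :
    ∃ x : ToType ((KI I).obj.obj (op (etOf R B))),
      (kernel.ι (EtLim.GmPush (zI R I))).hom.app (op (etOf R B)) x = gmu R B c :=
  exists_kernel_sec _ _ ((gmu_mem_kernel_iff R B I c).2 hc)

theorem base_of [HenselianLocalRing B] (hI : I.map (algebraMap R B) ≠ ⊤) {L : Type u} [Field L] (π : B →+* L)
    (hπ : Function.Surjective π) :
    Base L ((EtCoh.pull (Spec.map (CommRingCat.ofHom π))).obj ((EtCoh.pull (aS R B)).obj (KI I))) where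
  h1 := by
    haveI := subsingleton_H1_pull_KI I B
    exact (bijective_Hpull_point B π hπ _ 1).2.subsingleton
  norm M _ _ _ _ σ hσ b := by
    let q := Spec.map (CommRingCat.ofHom π)
    let X := Spec (CommRingCat.of L)
    haveI : AlgebraicGeometry.Etale (aS R B) := etale_algSpec R B
    have w0 : q ≫ (EtCoh.top (Spec (CommRingCat.of B))).hom = (EtCoh.top X).hom ≫ q :=
      (Category.comp_id q).trans (Category.id_comp q).symm
    have w1 : 𝟙 (Spec (CommRingCat.of B)) ≫ (etOf R B).hom =
        (EtCoh.top (Spec (CommRingCat.of B))).hom ≫ aS R B := rfl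
    obtain ⟨s1, hs1⟩ := (bijective_tr_top q _ (bijective_Hpull_point B π hπ _ 0) w0).2
      (b.hom.app (op (EtCoh.top X)) (gen (EtCoh.top X)))
    obtain ⟨s, rfl⟩ := (bijective_tr_diag (etOf R B) (KI I) w1).2 s1
    obtain ⟨α, hα⟩ := gmu_surjective R B ((kernel.ι (EtLim.GmPush (zI R I))).hom.app (op (etOf R B)) s)
    have hα1 : (α : B) - 1 ∈ I.map (algebraMap R B) := by
      rw [← gmu_mem_kernel_iff, hα]
      exact congrArg (fun t : KI I ⟶ _ => t.hom.app (op (etOf R B)) s) (kernel.condition (EtLim.GmPush (zI R I)))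
    obtain ⟨C, _, _, _, ρ, a, hρ, hcompat, hnorm⟩ := exists_galois_lift π M hπ
    letI : Algebra R C := ((algebraMap B C).comp (algebraMap R B)).toAlgebra
    haveI : IsScalarTower R B C := IsScalarTower.of_algebraMap_eq fun _ => rfl
    haveI : Algebra.Etale R C := Algebra.Etale.comp R B C
    obtain ⟨x, hxu, hxp, hx1⟩ := hnorm _ hI (α : B) hα1
    rw [Ideal.map_map] at hx1
    obtain ⟨xs, hxs⟩ := exists_kernel_sec (EtLim.GmPush (zI R I)) (gmu R C hxu.unit)
      ((gmu_mem_kernel_iff R C I hxu.unit).2 hx1)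
    have ha : ∀ g, ((a g).toRingHom).comp (algebraMap R C) = algebraMap R C := fun g =>
      RingHom.ext fun r => (a g).commutes (algebraMap R B r)
    have hsum : ∑ g : M ≃ₐ[L] M, (KI I).obj.map (etMap R (a g).toRingHom (ha g)).op xs =
        (KI I).obj.map (etMap R (algebraMap B C) rfl).op s := by
      refine kernel_sec_ext _ _ _ ?_
      rw [map_sum, NatTrans.naturality_apply, ← hα, map_gmu]
      simp only [NatTrans.naturality_apply, hxs, map_gmu]
      rw [← gmu_prod]
      refine congrArg (gmu R C) (Units.ext ?_)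
      rw [Units.coe_prod]
      exact hxp
    have wC : 𝟙 (Spec (CommRingCat.of C)) ≫ (etOf R C).hom = (etOf B C).hom ≫ aS R B := by
      show 𝟙 _ ≫ Spec.map _ = Spec.map _ ≫ Spec.map _
      rw [Category.id_comp, ← Spec.map_comp]
      rfl
    have wM : Spec.map (CommRingCat.ofHom ρ) ≫ (etOf B C).hom = (fieldEt L M).hom ≫ q := by
      show Spec.map _ ≫ Spec.map _ = Spec.map _ ≫ Spec.map _
      rw [← Spec.map_comp, ← Spec.map_comp, ← CommRingCat.ofHom_comp, hρ]
      rfl
    let G₁ := (EtCoh.pull (aS R B)).obj (KI I)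
    let T : ToType ((KI I).obj.obj (op (etOf R C))) →+
        ToType (((EtCoh.pull q).obj G₁).obj.obj (op (fieldEt L M))) :=
      (tr q G₁ (U := fieldEt L M) (V := etOf B C) (Spec.map (CommRingCat.ofHom ρ)) wM).hom.comp
        (tr (aS R B) (KI I) (U := etOf B C) (V := etOf R C) (𝟙 _) wC).hom
    refine ⟨desc (fieldEt L M) (T xs), ?_⟩
    haveI := epi_eps L M
    refine (cancel_epi (eps L M)).1 (free_hom_ext (fieldEt L M) ?_)
    rw [freeMap_app (toTop L M) b, ← hs1, ← Category.assoc, eps_nrm, Preadditive.sum_comp, sum_hom_app]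
    simp only [freeMap_app, desc_gen]
    have h1 : ∀ g : M ≃ₐ[L] M, ((EtCoh.pull q).obj G₁).obj.map (autMap L M g).op (T xs) =
        T ((KI I).obj.map (etMap R (a g).toRingHom (ha g)).op xs) := fun g => by
      have hB : (a g).toRingHom.comp (algebraMap B C) = algebraMap B C := (a g).comp_algebraMap
      refine (tr_natural q G₁ (autMap L M g) (etMap B (a g).toRingHom hB) _ wM _ wM ?_ _).trans ?_
      · show Spec.map _ ≫ Spec.map _ = Spec.map _ ≫ Spec.map _
        rw [← Spec.map_comp, ← Spec.map_comp, ← CommRingCat.ofHom_comp, ← CommRingCat.ofHom_comp]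
        exact congrArg (fun t => Spec.map (CommRingCat.ofHom t)) (RingHom.ext fun y => (hcompat g y).symm)
      refine congrArg _ ?_
      exact tr_natural (aS R B) (KI I) (etMap B (a g).toRingHom hB) (etMap R (a g).toRingHom (ha g)) _ wC _ wC
        ((Category.comp_id _).trans (Category.id_comp _).symm) xs
    rw [Finset.sum_congr rfl fun g _ => h1 g, ← map_sum, hsum]
    let φ : etOf B C ⟶ EtCoh.top (Spec (CommRingCat.of B)) := (EtCore.topIsTerminal _).from _
    have hφ : φ.left = Spec.map (CommRingCat.ofHom (algebraMap B C)) :=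
      (Category.comp_id _).symm.trans (MorphismProperty.Over.w φ)
    have hT : (toTop L M).left = Spec.map (CommRingCat.ofHom (algebraMap L M)) :=
      (Category.comp_id _).symm.trans (MorphismProperty.Over.w (toTop L M))
    refine Eq.symm ((tr_natural q G₁ (toTop L M) φ _ w0 _ wM ?_ _).trans (congrArg _ ?_))
    · rw [hφ, hT]
      exact wM.symm
    · exact tr_natural (aS R B) (KI I) φ (etMap R (algebraMap B C) rfl) _ w1 _ wC
        ((Category.comp_id _).trans (hφ.trans (Category.id_comp _).symm)) s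

end EtHensGmLib

end
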